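import Cfsg.Agent.Lib.OmegaSevenTwo.Model
import Cfsg.Agent.Lib.Classical.OrthOrderStd
import Cfsg.Agent.Lib.Classical.OrthForms
import Cfsg.Agent.Lib.Classical.OmegaOnto

/-!
`Ω` of the odd form in seven variables as a group of matrices preserving a sum of squares.
-/

set_option autoImplicit false

namespace CfsgLib.OmegaSevenTwo

open Matrix
open scoped commutatorElement

variable {F : Type*} [Field F] [Fintype F]

/-- the index type of the form -/
abbrev Ix7 : Type := Unit ⊕ (Fin 3 ⊕ Fin 3)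

/-- coordinates in which the odd form is minus a sum of squares -/
def toOdd (a b : F) (u : Fin 7 → F) : Ix7 → F
  | .inl _ => a * u 3 + b * u 4
  | .inr (.inl i) => ![-b * u 3 + a * u 4, a * u 5 + b * u 6, -b * u 5 + a * u 6] i + ![u 0, u 1, u 2] i
  | .inr (.inr i) => ![-b * u 3 + a * u 4, a * u 5 + b * u 6, -b * u 5 + a * u 6] i - ![u 0, u 1, u 2] i

theorem quadFormOdd_toOdd {a b : F} (hab : a ^ 2 + b ^ 2 = -1) (u : Fin 7 → F) :
    Cfsg.quadFormOdd 3 F (toOdd a b u) = -Qs u := by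
  simp only [Cfsg.quadFormOdd, toOdd, Qs, Fin.sum_univ_three, Fin.sum_univ_seven, Matrix.cons_val_zero,
    Matrix.cons_val_one, Matrix.cons_val_two, Matrix.head_cons, Matrix.tail_cons]
  linear_combination (u 3 ^ 2 + u 4 ^ 2 + u 5 ^ 2 + u 6 ^ 2) * hab

theorem exists_coord [DecidableEq F] (h2 : (2 : F) ≠ 0) :
    ∃ L : (Fin 7 → F) ≃ₗ[F] (Ix7 → F), ∀ u, Cfsg.quadFormOdd 3 F (L u) = -Qs u := by
  obtain ⟨p, hp⟩ := CharP.exists F
  obtain ⟨a, b, hab⟩ := FiniteField.exists_root_sum_quadratic (R := F)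
    (f := Polynomial.X ^ 2) (g := Polynomial.X ^ 2 + 1)
    (by simp) (by rw [← Polynomial.C_1, Polynomial.degree_X_pow_add_C (by norm_num)]; rfl)
    (Nat.odd_iff.1 (by
      rw [Nat.odd_iff]
      exact FiniteField.odd_card_of_char_ne_two fun h => h2 (by
        haveI := ringChar.charP F
        have := CharP.cast_eq_zero F (ringChar F)
        rwa [h, Nat.cast_ofNat] at this)))
  simp only [Polynomial.eval_pow, Polynomial.eval_X, Polynomial.eval_add, Polynomial.eval_one] at hab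
  have hab' : a ^ 2 + b ^ 2 = -1 := by linear_combination hab
  let f : (Fin 7 → F) →ₗ[F] (Ix7 → F) :=
    { toFun := toOdd a b
      map_add' := fun u v => by
        funext i
        rcases i with _ | i | i <;> (try fin_cases i) <;> simp [toOdd] <;> ring
      map_smul' := fun c u => by
        funext i
        rcases i with _ | i | i <;> (try fin_cases i) <;> simp [toOdd] <;> ring }
  have hinj : Function.Injective f := by
    rw [← LinearMap.ker_eq_bot, LinearMap.ker_eq_bot']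
    intro u hu
    have h0 := congrFun hu (.inl ())
    have hx : ∀ i, toOdd a b u (.inr (.inl i)) = 0 := fun i => congrFun hu (.inr (.inl i))
    have hy : ∀ i, toOdd a b u (.inr (.inr i)) = 0 := fun i => congrFun hu (.inr (.inr i))
    have x0 := hx 0; have x1 := hx 1; have x2 := hx 2
    have y0 := hy 0; have y1 := hy 1; have y2 := hy 2
    simp [toOdd] at x0 x1 x2 y0 y1 y2
    change a * u 3 + b * u 4 = 0 at h0
    have e0 : 2 * u 0 = 0 := by linear_combination x0 - y0
    have e1 : 2 * u 1 = 0 := by linear_combination x1 - y1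
    have e2 : 2 * u 2 = 0 := by linear_combination x2 - y2
    have z0 := (mul_eq_zero.1 e0).resolve_left h2
    have z1 := (mul_eq_zero.1 e1).resolve_left h2
    have z2 := (mul_eq_zero.1 e2).resolve_left h2
    have A1 : -b * u 3 + a * u 4 = 0 := by linear_combination x0 - z0
    have A2 : a * u 5 + b * u 6 = 0 := by linear_combination x1 - z1
    have A3 : -b * u 5 + a * u 6 = 0 := by linear_combination x2 - z2
    have z3 : u 3 = 0 := by linear_combination u 3 * hab' - a * h0 + b * A1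
    have z4 : u 4 = 0 := by linear_combination u 4 * hab' - b * h0 - a * A1
    have z5 : u 5 = 0 := by linear_combination u 5 * hab' - a * A2 + b * A3
    have z6 : u 6 = 0 := by linear_combination u 6 * hab' - b * A2 - a * A3
    funext i
    fin_cases i <;> assumption
  have hbij : Function.Bijective f :=
    ⟨hinj, (LinearMap.injective_iff_surjective_of_finrank_eq_finrank (by simp)).1 hinj⟩
  exact ⟨LinearEquiv.ofBijective f hbij, fun u => quadFormOdd_toOdd hab' u⟩

/-- The embedding and the two-part of the order. -/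
theorem exists_embed [DecidableEq F] (h2 : (2 : F) ≠ 0) {q : ℕ} (hF : Fintype.card F = q)
    (hq : q % 8 = 3 ∨ q % 8 = 5) :
    ∃ ν : ↥(Cfsg.Omega F (Cfsg.quadFormOdd 3 F)) →* GL (Fin 7) F, Function.Injective ν ∧
      (∀ g, ν g ∈ Cfsg.isometryGroup F (Qs (F := F))) ∧
      (∀ a ∈ Cfsg.isometryGroup F (Qs (F := F)), ∀ b ∈ Cfsg.isometryGroup F (Qs (F := F)),
        ⁅a, b⁆ ∈ ν.range) ∧
      (Nat.card ↥(Cfsg.Omega F (Cfsg.quadFormOdd 3 F))).factorization 2 = 9 := by
  obtain ⟨L, hL⟩ := exists_coord (F := F) h2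
  obtain ⟨Φ, hΦ⟩ : ∃ Φ : GL Ix7 F ≃* GL (Fin 7) F, ∀ g u, L ((Φ g).val *ᵥ u) = g.val *ᵥ (L u) := by
    let Φ : GL Ix7 F ≃* GL (Fin 7) F := Units.mapEquiv
      (((Matrix.toLinAlgEquiv' (R := F) (n := Ix7)).trans (L.symm.conjAlgEquiv F)).trans
        (Matrix.toLinAlgEquiv' (R := F) (n := Fin 7)).symm).toMulEquiv
    refine ⟨Φ, fun g u => ?_⟩
    have : (Φ g).val *ᵥ u = L.symm (g.val *ᵥ (L u)) := by
      rw [← Matrix.toLinAlgEquiv'_apply]
      simp [Φ, LinearEquiv.conjAlgEquiv_apply]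
    rw [this, L.apply_symm_apply]
  let ν : ↥(Cfsg.Omega F (Cfsg.quadFormOdd 3 F)) →* GL (Fin 7) F :=
    Φ.toMonoidHom.comp ((Cfsg.isometryGroup F (Cfsg.quadFormOdd 3 F)).subtype.comp
      (Cfsg.Omega F (Cfsg.quadFormOdd 3 F)).subtype)
  have hiff : ∀ g : GL Ix7 F, Φ g ∈ Cfsg.isometryGroup F (Qs (F := F)) ↔
      g ∈ Cfsg.isometryGroup F (Cfsg.quadFormOdd 3 F) := by
    intro g
    constructor
    · intro h u v
      show Cfsg.quadFormOdd 3 F (g.val *ᵥ u) = Cfsg.quadFormOdd 3 F u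
      obtain ⟨u, rfl⟩ := L.surjective u
      rw [← hΦ, hL, hL]
      exact congrArg Neg.neg (h u u)
    · intro h u v
      show Qs ((Φ g).val *ᵥ u) = Qs u
      apply neg_injective
      rw [← hL, ← hL, hΦ]
      exact h (L u) (L u)
  refine ⟨ν, ?_, fun g => (hiff _).2 g.1.2, fun a ha b hb => ?_, ?_⟩
  · exact Φ.injective.comp ((Cfsg.isometryGroup F (Cfsg.quadFormOdd 3 F)).subtype_injective.comp
      (Cfsg.Omega F (Cfsg.quadFormOdd 3 F)).subtype_injective)
  · obtain ⟨a, rfl⟩ := Φ.surjective a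
    obtain ⟨b, rfl⟩ := Φ.surjective b
    let a' : Cfsg.isometryGroup F (Cfsg.quadFormOdd 3 F) := ⟨a, (hiff a).1 ha⟩
    let b' : Cfsg.isometryGroup F (Cfsg.quadFormOdd 3 F) := ⟨b, (hiff b).1 hb⟩
    have hcm : ⁅a', b'⁆ ∈ Cfsg.Omega F (Cfsg.quadFormOdd 3 F) :=
      Subgroup.commutator_mem_commutator (Subgroup.mem_top a') (Subgroup.mem_top b')
    refine ⟨⟨⁅a', b'⁆, hcm⟩, ?_⟩
    show Φ.toMonoidHom ((Cfsg.isometryGroup F (Cfsg.quadFormOdd 3 F)).subtype
      ⁅a', b'⁆) = _
    rw [map_commutatorElement, map_commutatorElement]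
    rfl
  · obtain ⟨Q, hQ, hB⟩ := CfsgLib.Orth.exists_quadForm_odd (F := F) h2 3
    have h := CfsgLib.Orth.card_orth_odd h2 3 hQ hB
    have e : Nat.card (CfsgLib.Orth.Grp Q) = Nat.card (Cfsg.isometryGroup F (Cfsg.quadFormOdd 3 F)) := by
      show Nat.card (Cfsg.isometryGroup F ⇑Q) = _
      rw [hQ]
    rw [e, Nat.card_eq_fintype_card (α := F), hF] at h
    have hi := CfsgLib.Orth.index_omega_odd hB h2 (by simp)
    rw [hQ] at hi
    have h' := (Cfsg.Omega F (Cfsg.quadFormOdd 3 F)).index_mul_card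
    rw [hi, h] at h'
    set c := Nat.card ↥(Cfsg.Omega F (Cfsg.quadFormOdd 3 F))
    obtain ⟨k, hk⟩ : ∃ k, q ^ 2 = 16 * k + 9 := ⟨q ^ 2 / 16, by
      have : q ^ 2 % 16 = 9 := by
        rw [Nat.pow_mod]
        have := Nat.mod_lt q (show 16 > 0 by norm_num)
        interval_cases hr : q % 16 <;> omega
      omega⟩
    simp only [Finset.prod_range_succ, Finset.prod_range_zero, one_mul] at h'
    have a1 : q ^ (2 * (0 + 1)) - 1 = 8 * (2 * k + 1) := by norm_num; omega
    have a2 : q ^ (2 * (1 + 1)) - 1 = 16 * ((2 * k + 1) * (8 * k + 5)) := by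
      have : q ^ (2 * (1 + 1)) = (16 * k + 9) ^ 2 := by rw [← hk]; ring
      rw [this]
      have : (16 * k + 9) ^ 2 = 16 * ((2 * k + 1) * (8 * k + 5)) + 1 := by ring
      omega
    have a3 : q ^ (2 * (2 + 1)) - 1 = 8 * ((2 * k + 1) * ((16 * k + 9) ^ 2 + (16 * k + 9) + 1)) := by
      have : q ^ (2 * (2 + 1)) = (16 * k + 9) ^ 3 := by rw [← hk]; ring
      rw [this]
      have : (16 * k + 9) ^ 3 = 8 * ((2 * k + 1) * ((16 * k + 9) ^ 2 + (16 * k + 9) + 1)) + 1 := by ring
      omega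
    rw [a1, a2, a3] at h'
    have hodd : Odd q := by rw [Nat.odd_iff]; omega
    set m := q ^ 9 * ((2 * k + 1) * ((2 * k + 1) * (8 * k + 5)) *
      ((2 * k + 1) * ((16 * k + 9) ^ 2 + (16 * k + 9) + 1))) with hm
    have hc : c = 2 ^ 9 * m := by
      have : 4 * c = 4 * (2 ^ 9 * m) := by
        rw [h', hm, show (3 : ℕ) ^ 2 = 9 by norm_num]
        ring
      omega
    have hmodd : Odd m := by
      have o1 : Odd (2 * k + 1) := odd_two_mul_add_one k
      have o2 : Odd (8 * k + 5) := ⟨4 * k + 2, by ring⟩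
      have o3 : Odd ((16 * k + 9) ^ 2 + (16 * k + 9) + 1) := ⟨(16 * k + 9) * (8 * k + 5), by ring⟩
      exact hm ▸ hodd.pow.mul ((o1.mul (o1.mul o2)).mul (o1.mul o3))
    rw [hc, Nat.factorization_def _ Nat.prime_two,
      padicValNat.mul (by norm_num) hmodd.pos.ne', padicValNat.prime_pow,
      padicValNat.eq_zero_of_not_dvd (Nat.not_even_iff_odd.2 hmodd ∘ even_iff_two_dvd.2)]

end CfsgLib.OmegaSevenTwo
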