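import Cfsg.Agent.Lib.OmegaSevenTwo.Mono

/-!
A Sylow 2-subgroup of `Ω₇(q)`, `q ≡ ±3 (mod 8)`, its strongly closed subgroups and normalizer.
-/

set_option autoImplicit false
set_option linter.unusedSectionVars false

namespace CfsgLib.OmegaSevenTwo

open Equiv Matrix
open scoped commutatorElement

theorem evenV_comp {d : Sgn} (hd : d ∈ evenV) (σ : Perm (Fin 7)) : (fun i => d (σ i)) ∈ evenV := by
  rw [mem_evenV] at hd ⊢
  rw [← hd]
  exact Equiv.prod_comp σ d

theorem cyc_even {i j k : Fin 7} (hij : i ≠ j) (hjk : j ≠ k) : cyc i j k ∈ alternatingGroup (Fin 7) := by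
  rw [Perm.mem_alternatingGroup, cyc, map_mul, Perm.sign_swap hij, Perm.sign_swap hjk]
  rfl

theorem tau_one : swap (2 : Fin 7) 4 * swap 3 5 * el 7 * (swap (2 : Fin 7) 4 * swap 3 5)⁻¹ = el 1 := by
  rw [el_seven_eq, el_one_eq]
  refine Equiv.ext fun i => ?_
  fin_cases i <;> rfl

theorem tau_two : swap (1 : Fin 7) 2 * swap 4 5 * el 7 * (swap (1 : Fin 7) 2 * swap 4 5)⁻¹ = el 2 := by
  rw [el_seven_eq, el_two_eq]
  refine Equiv.ext fun i => ?_
  fin_cases i <;> rfl

variable {F : Type*} [Field F]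

theorem monoM_diag (d : Sgn) : monoM (F := F) d 1 = Matrix.diagonal fun i => sgnF (d i) := by
  ext i j
  rw [monoM_apply, Matrix.diagonal_apply]
  rfl

/-- the monomial subgroup -/
def monoSub : Subgroup (GL (Fin 7) F) where
  carrier := {x | ∃ d ∈ evenV, ∃ a, monoG d (el a) = x}
  one_mem' := ⟨1, evenV.one_mem, 0, by rw [el_zero]; exact monoG_one⟩
  mul_mem' {x y} hx hy := by
    obtain ⟨d, hd, a, rfl⟩ := hx
    obtain ⟨e, he, b, rfl⟩ := hy
    refine ⟨_, evenV.mul_mem hd (evenV_comp he (el a)⁻¹), mt a b, ?_⟩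
    rw [monoG_mul, el_mt]
    rfl
  inv_mem' {x} hx := by
    obtain ⟨d, hd, a, rfl⟩ := hx
    refine ⟨_, evenV_comp hd (el a), iv a, ?_⟩
    rw [monoG_inv, show el (iv a) = (el a)⁻¹ from Equiv.ext fun _ => rfl]

theorem diag_mem_monoSub {d : Sgn} (hd : d ∈ evenV) : diagHom (F := F) d ∈ monoSub :=
  ⟨d, hd, 0, by rw [el_zero]; rfl⟩

theorem perm_mem_monoSub (a : Fin 8) : permHom (F := F) (el a) ∈ monoSub :=
  ⟨1, evenV.one_mem, a, rfl⟩

theorem monoG_eq (d : Sgn) (σ : Perm (Fin 7)) : monoG (F := F) d σ = diagHom d * permHom σ := by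
  show _ = monoG d 1 * monoG 1 σ
  rw [monoG_mul, one_mul]
  simp

/-- The even elements acting diagonally are recognised inside the monomial subgroup. -/
theorem diag_char (h2 : (2 : F) ≠ 0) {M : GL (Fin 7) F}
    (hM : ∀ d ∈ evenV, M * diagHom d * M⁻¹ ∈ monoSub) :
    ∀ d ∈ evenV, ∃ e ∈ evenV, M * diagHom d * M⁻¹ = diagHom e := by
  classical
  have hc : ∀ d : evenV, ∃ e : evenV, ∃ a, M * diagHom d.1 * M⁻¹ = monoG e.1 (el a) := fun d => by
    obtain ⟨e, he, a, h⟩ := hM d.1 d.2
    exact ⟨⟨e, he⟩, a, h.symm⟩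
  choose fe fa hf using hc
  have hmul : ∀ d d' : evenV, el (fa (d * d')) = el (fa d) * el (fa d') ∧
      (fe (d * d')).1 = fun i => (fe d).1 i * (fe d').1 ((el (fa d))⁻¹ i) := by
    intro d d'
    have h : monoG (F := F) (fe (d * d')).1 (el (fa (d * d'))) =
        monoG (fun i => (fe d).1 i * (fe d').1 ((el (fa d))⁻¹ i)) (el (fa d) * el (fa d')) := by
      rw [← monoG_mul, ← hf, ← hf, ← hf, Subgroup.coe_mul, map_mul]
      group
    exact ⟨(monoG_inj h2 h).2, (monoG_inj h2 h).1⟩
  let f : evenV →* Perm (Fin 7) := MonoidHom.mk' (fun d => el (fa d)) fun d d' => (hmul d d').1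
  have hfa : ∀ d, f d = el (fa d) := fun _ => rfl
  have hsq : ∀ d : evenV, mt (fa d) (fa d) = 0 := fun d => el_inj (by
    rw [← el_mt, ← hfa, ← map_mul, el_zero,
      show d * d = 1 from Subtype.ext (funext fun i => Int.units_mul_self _), map_one])
  have hcomm : ∀ d d' : evenV, mt (fa d) (fa d') = mt (fa d') (fa d) := fun d d' => el_inj (by
    rw [← el_mt, ← el_mt, ← hfa, ← hfa, ← map_mul, ← map_mul, mul_comm])
  by_cases h0 : ∀ d, fa d = 0
  · intro d hd
    exact ⟨(fe ⟨d, hd⟩).1, (fe ⟨d, hd⟩).2, by rw [hf ⟨d, hd⟩, h0, el_zero]; rfl⟩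
  exfalso
  push Not at h0
  obtain ⟨d1, hd1⟩ := h0
  have hker : ∀ k : f.ker, fa k.1 = 0 := fun k => el_inj (by
    rw [el_zero, ← hfa]; exact MonoidHom.mem_ker.1 k.2)
  have hfix : ∀ (k : f.ker) (d : evenV) (i : Fin 7), (fe k.1).1 (el (fa d) i) = (fe k.1).1 i := by
    intro k d i
    have h1 := (hmul k.1 d).2
    have h2' := (hmul d k.1).2
    rw [mul_comm k.1 d, h2', hker k] at h1
    have h3 := congrFun h1 (el (fa d) i)
    simp only [el_zero, inv_one, Perm.one_apply, perm_inv_apply] at h3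
    rw [mul_comm ((fe k.1).1 (el (fa d) i))] at h3
    exact (mul_left_cancel h3).symm
  have hzero : ∀ k : f.ker, (fe k.1).1 = 1 → k = 1 := fun k h => by
    have h1 := hf k.1
    rw [hker k, el_zero, h, monoG_one] at h1
    have h4 : diagHom (F := F) k.1.1 = 1 := by
      calc diagHom (F := F) k.1.1 = M⁻¹ * (M * diagHom k.1.1 * M⁻¹) * M := by group
        _ = 1 := by rw [h1]; group
    exact Subtype.ext (Subtype.ext (monoG_inj h2 (h4.trans monoG_one.symm)).1)
  have hres : ∀ {n : ℕ} (co : Fin n → Fin 7),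
      (∀ k : f.ker, (∀ c, (fe k.1).1 (co c) = 1) → (fe k.1).1 = 1) →
      Nat.card f.ker ≤ 2 ^ n := by
    intro n co hco
    let r : f.ker →* (Fin n → ℤˣ) := MonoidHom.mk' (fun k c => (fe k.1).1 (co c)) fun k k' => funext fun c => by
      show (fe (k.1 * k'.1)).1 (co c) = _
      rw [(hmul k.1 k'.1).2, hker k, el_zero]
      rfl
    have hr : Function.Injective r := (injective_iff_map_eq_one r).2 fun k hk =>
      hzero k (hco k fun c => congrFun hk c)
    refine (Nat.card_le_card_of_injective r hr).trans (le_of_eq ?_)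
    simp [Nat.card_eq_fintype_card]
  have hrange : ∀ l : List (Fin 8), (∀ d, fa d ∈ l) → Nat.card f.range ≤ l.length := by
    intro l hl
    refine le_trans (Nat.card_mono (t := ↑(l.map el).toFinset) (Finset.finite_toSet _) ?_) ?_
    · rintro σ ⟨d, rfl⟩
      rw [Finset.mem_coe, List.mem_toFinset, List.mem_map]
      exact ⟨fa d, hl d, rfl⟩
    · rw [Nat.card_coe_set_eq, Set.ncard_coe_finset]
      exact (List.toFinset_card_le _).trans (List.length_map (f := el)).le
  have htot : Nat.card f.ker * Nat.card f.range = 64 := by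
    rw [← Subgroup.index_ker f, f.ker.card_mul_index, card_evenV]
  set a := fa d1
  by_cases h1 : ∀ d, fa d = 0 ∨ fa d = a
  · have hk := hres (co1 a) fun k hk => fixed_one hd1 (hsq d1) (fe k.1).2 (hfix k d1) hk
    have hr := hrange [0, a] fun d => by simpa using h1 d
    have := Nat.mul_le_mul hk hr
    rw [htot] at this
    norm_num at this
  · push Not at h1
    obtain ⟨d2, hb0, hba⟩ := h1
    set b := fa d2
    have hk := hres (co2 a b) fun k hk => fixed_two hd1 hb0 (Ne.symm hba) (hsq d1) (hsq d2) (hcomm d1 d2)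
      (fe k.1).2 (hfix k d1) (hfix k d2) hk
    have hr := hrange [0, a, b, mt a b] fun d => by
      simpa using comm_two a b hd1 hb0 (Ne.symm hba) (hsq d1) (hsq d2) (hcomm d1 d2) (fa d) (hsq d)
        (hcomm d d1) (hcomm d d2)
    have := Nat.mul_le_mul hk hr
    rw [htot] at this
    norm_num at this

/-- An element carrying the even diagonal elements to diagonal ones is monomial. -/
theorem eq_mono (h2 : (2 : F) ≠ 0) {M : GL (Fin 7) F} (hiso : M ∈ Cfsg.isometryGroup F (Qs (F := F)))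
    (hM : ∀ d ∈ evenV, ∃ e ∈ evenV, M * diagHom d * M⁻¹ = diagHom e) :
    ∃ s τ, M = monoG s τ := by
  classical
  set m : Matrix (Fin 7) (Fin 7) F := M.val with hm
  have hT : m.transpose * m = 1 := by
    have h : ∀ u : Fin 7 → F, Qs (m *ᵥ u) = Qs u := fun u => hiso u u
    have hdot : ∀ u v : Fin 7 → F, (m *ᵥ u) ⬝ᵥ (m *ᵥ v) = u ⬝ᵥ v := by
      intro u v
      have h3 := h (u + v)
      have e : ∀ x y : Fin 7 → F, Qs (x + y) = Qs x + Qs y + 2 * (x ⬝ᵥ y) := fun x y => by
        simp only [Qs, dotProduct, Pi.add_apply, Finset.mul_sum, ← Finset.sum_add_distrib]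
        exact Finset.sum_congr rfl fun i _ => by ring
      rw [Matrix.mulVec_add, e, e, h u, h v] at h3
      exact mul_left_cancel₀ h2 (add_left_cancel h3)
    ext j k
    have := hdot (Pi.single j 1) (Pi.single k 1)
    rw [Matrix.mulVec_single_one, Matrix.mulVec_single_one] at this
    rw [Matrix.mul_apply]
    simp only [Matrix.transpose_apply]
    refine (Eq.trans ?_ this).trans ?_
    · rfl
    · simp [Matrix.one_apply, Pi.single_apply, eq_comm]
  have hT' : m * m.transpose = 1 := mul_eq_one_comm.1 hT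
  have huniq : ∀ i j k, m i j ≠ 0 → m i k ≠ 0 → j = k := by
    intro i j k hj hk
    by_contra hjk
    obtain ⟨l, hlj, hlk⟩ := exists_third j k
    obtain ⟨e, -, he⟩ := hM _ (pair_even j l hlj.symm)
    have he' : M * diagHom (pair j l) = diagHom e * M := by rw [← he]; group
    have h : m * monoM (pair j l) 1 = monoM e 1 * m := congrArg Units.val he'
    rw [monoM_diag, monoM_diag] at h
    have e1 := congrFun (congrFun h i) j
    have e2 := congrFun (congrFun h i) k
    rw [Matrix.mul_diagonal, Matrix.diagonal_mul, mul_comm] at e1 e2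
    have a1 := mul_right_cancel₀ hj e1
    have a2 := mul_right_cancel₀ hk e2
    have := sgnF_inj h2 (a1.trans a2.symm)
    simp [pair, hjk, Ne.symm hjk, hlk.symm] at this
  have hex : ∀ i, ∃ j, m i j ≠ 0 := fun i => by
    by_contra hc
    push Not at hc
    have h := congrFun (congrFun hT' i) i
    simp [Matrix.mul_apply, hc] at h
  choose π hπ using hex
  have hoff : ∀ i j, j ≠ π i → m i j = 0 := fun i j hj => by
    by_contra hc
    exact hj (huniq i j (π i) hc (hπ i))
  have hrow : ∀ i i', (m * m.transpose) i i' = m i (π i) * m i' (π i) := fun i i' => by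
    rw [Matrix.mul_apply, Finset.sum_eq_single (π i)]
    · rfl
    · intro j _ hj; rw [hoff i j hj, zero_mul]
    · simp
  have hπinj : Function.Injective π := fun i i' h => by
    by_contra hne
    have := hrow i i'
    rw [hT', Matrix.one_apply_ne hne] at this
    rcases mul_eq_zero.1 this.symm with h1 | h1
    · exact hπ i h1
    · exact hπ i' (h ▸ h1)
  let p : Perm (Fin 7) := Equiv.ofBijective π (Finite.injective_iff_bijective.1 hπinj)
  refine ⟨fun i => if m i (π i) = 1 then 1 else -1, p⁻¹, Units.ext ?_⟩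
  show m = monoM _ p⁻¹
  ext i j
  rw [monoM_apply]
  by_cases hij : i = p⁻¹ j
  · rw [if_pos hij]
    have hj : j = π i := by rw [hij]; exact (p.apply_symm_apply j).symm
    rw [hj]
    have hs := hrow i i
    rw [hT', Matrix.one_apply_eq] at hs
    rcases mul_self_eq_one_iff.1 hs.symm with h1 | h1
    · simp [h1, sgnF_one]
    · have hne : (-1 : F) ≠ 1 := fun e => h2 (by linear_combination -e)
      simp [h1, hne, sgnF]
  · rw [if_neg hij]
    exact hoff i j fun e => hij (by rw [e]; exact (p.symm_apply_apply i).symm)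

/-- The Sylow subgroup with what fusion needs. -/
theorem exists_model {G : Type*} [Group G] [Finite G] (h2 : (2 : F) ≠ 0) (ν : G →* GL (Fin 7) F)
    (hν : Function.Injective ν) (hpres : ∀ g, ν g ∈ Cfsg.isometryGroup F (Qs (F := F)))
    (hK : ∀ a ∈ Cfsg.isometryGroup F (Qs (F := F)), ∀ b ∈ Cfsg.isometryGroup F (Qs (F := F)),
      ⁅a, b⁆ ∈ ν.range)
    (hcard : (Nat.card G).factorization 2 = 9) :
    ∃ S₀ : Sylow 2 G, (S₀ : Subgroup G) ≠ ⊥ ∧
      (∀ T : Subgroup G, T ≤ S₀ →
        (∀ g : G, ∀ x ∈ T, g * x * g⁻¹ ∈ (S₀ : Subgroup G) → g * x * g⁻¹ ∈ T) →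
        T = ⊥ ∨ T = (S₀ : Subgroup G)) ∧
      ∀ g ∈ Subgroup.normalizer ((S₀ : Subgroup G) : Set G), ¬ 2 ∣ orderOf g →
        g ∈ Subgroup.centralizer ((S₀ : Subgroup G) : Set G) := by
  classical
  haveI : Fact (Nat.Prime 2) := ⟨Nat.prime_two⟩
  let U : Subgroup G := monoSub.comap ν
  have hpre : ∀ x ∈ monoSub (F := F), x ∈ ν.range := by
    rintro x ⟨d, hd, a, rfl⟩
    exact monoG_mem_range hK hd (dih_alternating (el_mem a))
  have hcU : Nat.card U = 512 := by
    have h1 : Nat.card (evenV × Fin 8) = 512 := by rw [Nat.card_prod, card_evenV, Nat.card_fin]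
    rw [← h1]
    have hpre' : ∀ q : evenV × Fin 8, ∃ u : U, ν u = monoG q.1.1 (el q.2) := fun q => by
      obtain ⟨u, hu⟩ := hpre _ ⟨q.1.1, q.1.2, q.2, rfl⟩
      exact ⟨⟨u, show ν u ∈ monoSub from hu ▸ ⟨q.1.1, q.1.2, q.2, rfl⟩⟩, hu⟩
    choose w hw using hpre'
    refine (Nat.card_eq_of_bijective w ⟨fun q q' e => ?_, fun u => ?_⟩).symm
    · have h := (hw q).symm.trans (e ▸ hw q')
      obtain ⟨hd, hs⟩ := monoG_inj h2 h
      exact Prod.ext (Subtype.ext hd) (el_inj hs)
    · obtain ⟨d, hd, a, e⟩ := (u.2 : ν u.1 ∈ monoSub)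
      exact ⟨(⟨d, hd⟩, a), Subtype.ext (hν ((hw _).trans e))⟩
  let S₀ : Sylow 2 G := Sylow.ofCard U (by rw [hcU, hcard]; norm_num)
  refine ⟨S₀, ?_, ?_, ?_⟩
  · show U ≠ ⊥
    intro e
    rw [e, Subgroup.card_bot] at hcU
    norm_num at hcU
  · intro T hT hcl
    change T ≤ U at hT
    by_cases hT0 : T = ⊥
    · exact Or.inl hT0
    refine Or.inr (le_antisymm hT ?_)
    set R : Subgroup (GL (Fin 7) F) := T.map ν with hR
    have hRle : R ≤ monoSub := Subgroup.map_le_iff_le_comap.2 hT
    have hRcl : ∀ c ∈ ν.range, ∀ y ∈ R, c * y * c⁻¹ ∈ monoSub → c * y * c⁻¹ ∈ R := by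
      rintro _ ⟨g, rfl⟩ _ ⟨x, hx, rfl⟩ hm
      rw [← map_inv, ← map_mul, ← map_mul] at hm ⊢
      exact Subgroup.mem_map_of_mem ν (hcl g x hx hm)
    let Kd : Subgroup Sgn := R.comap diagHom
    obtain ⟨x, hxT, hx1⟩ : ∃ x ∈ T, x ≠ 1 := T.bot_or_exists_ne_one.resolve_left hT0
    have hyR : ν x ∈ R := Subgroup.mem_map_of_mem ν hxT
    obtain ⟨d, hd, a, he⟩ := hRle hyR
    have hdiag : ∀ e ∈ evenV, diagHom (F := F) e ∈ ν.range := fun e h => diagHom_mem hK h
    obtain ⟨d1, hd1, hd1ne, hd1K⟩ : ∃ d1 ∈ evenV, d1 ≠ 1 ∧ d1 ∈ Kd := by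
      by_cases ha : a = 0
      · subst ha
        rw [el_zero] at he
        refine ⟨d, hd, fun e => hx1 (hν ?_), show diagHom d ∈ R from (he ▸ hyR : monoG d 1 ∈ R)⟩
        rw [← he, e, monoG_one, map_one]
      · have hne : el a ≠ 1 := fun e => ha (el_inj (e.trans el_zero.symm))
        obtain ⟨i, j, hij, hne'⟩ := exists_moved hne
        have hp := pair_even i j hij
        have h1 : diagHom (F := F) (pair i j) * (ν x)⁻¹ * (diagHom (pair i j))⁻¹ ∈ R :=
          hRcl _ (hdiag _ hp) _ (R.inv_mem hyR)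
            (monoSub.mul_mem (monoSub.mul_mem (diag_mem_monoSub hp) (monoSub.inv_mem (hRle hyR)))
              (monoSub.inv_mem (diag_mem_monoSub hp)))
        have h3 := R.mul_mem hyR h1
        have e : ν x * (diagHom (pair i j) * (ν x)⁻¹ * (diagHom (pair i j))⁻¹) =
            diagHom (fun k => pair i j ((el a)⁻¹ k) * pair i j k) := by
          calc ν x * (diagHom (pair i j) * (ν x)⁻¹ * (diagHom (pair i j))⁻¹)
              = ν x * diagHom (pair i j) * (ν x)⁻¹ * (diagHom (pair i j))⁻¹ := by group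
            _ = _ := by
              rw [← he, diag_conj, ← map_inv, ← map_mul]
              congr 1
              funext k
              simp
        rw [e] at h3
        exact ⟨_, evenV.mul_mem (evenV_comp hp _) hp, hne', h3⟩
    have hmove : ∀ σ ∈ alternatingGroup (Fin 7), ∀ e ∈ evenV, e ∈ Kd → (fun k => e (σ k)) ∈ Kd := by
      intro σ hσ e hev he
      have hc : monoG (F := F) 1 σ⁻¹ * diagHom e * (monoG 1 σ⁻¹)⁻¹ = diagHom (fun k => e (σ k)) := by
        rw [diag_conj, inv_inv]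
      have := hRcl _ (monoG_mem_range hK evenV.one_mem ((alternatingGroup (Fin 7)).inv_mem hσ)) _
        (show diagHom e ∈ R from he) (by rw [hc]; exact diag_mem_monoSub (evenV_comp hev σ))
      rw [hc] at this
      exact this
    obtain ⟨i, j, hij⟩ := exists_ne_of_ne_one hd1 hd1ne
    have hij' : i ≠ j := fun e => hij (e ▸ rfl)
    obtain ⟨k, hki, hkj⟩ := exists_third i j
    obtain ⟨p, q, hpq, hprod⟩ := pair_of_three_cycle hij hij' hki.symm hkj.symm
    have hpqK : pair p q ∈ Kd := by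
      rw [← hprod]
      exact Kd.mul_mem hd1K (hmove _ (cyc_even hij' hkj.symm) _ hd1 hd1K)
    have mv : ∀ {u v w : Fin 7}, u ≠ v → u ≠ w → v ≠ w → pair u v ∈ Kd → pair u w ∈ Kd := by
      intro u v w huv huw hvw h
      rw [← pair_move huv huw hvw]
      exact hmove _ (cyc_even huv hvw) _ (pair_even u v huv) h
    have hall : ∀ u v : Fin 7, u ≠ v → pair u v ∈ Kd := by
      have hp : ∀ u, u ≠ p → pair p u ∈ Kd := by
        intro u hu
        rcases eq_or_ne u q with rfl | huq
        · exact hpqK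
        · exact mv hpq hu.symm huq.symm hpqK
      intro u v huv
      rcases eq_or_ne u p with rfl | hup
      · exact hp v huv.symm
      rcases eq_or_ne v p with rfl | hvp
      · rw [pair_comm]; exact hp u huv
      exact mv hup huv hvp.symm (pair_comm p u ▸ hp u hup)
    have hE : ∀ e ∈ evenV, diagHom e ∈ R := fun e he => evenV_le hall he
    have h7 : permHom (el 7) ∈ R := by
      have hc := mixer_conj (F := F) h2
      rw [← el_seven_eq] at hc
      have hm : monoG (F := F) (pair 2 3) (el 7) ∈ monoSub := ⟨_, pair_even 2 3 (by decide), 7, rfl⟩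
      have h1 := hRcl _ (mixer_mem h2 hK) _ (hE _ (pair_even 0 1 (by decide))) (by rw [hc]; exact hm)
      rw [hc, monoG_eq] at h1
      simpa using R.mul_mem (R.inv_mem (hE _ (pair_even 2 3 (by decide)))) h1
    have hperm : ∀ τ ∈ alternatingGroup (Fin 7), ∀ b, τ * el 7 * τ⁻¹ = el b → permHom (el b) ∈ R := by
      intro τ hτ b e
      have hc : permHom (F := F) τ * permHom (el 7) * (permHom τ)⁻¹ = permHom (el b) := by
        rw [← map_inv, ← map_mul, ← map_mul, e]
      have h1 := hRcl _ (permHom_mem hK hτ) _ h7 (by rw [hc]; exact perm_mem_monoSub b)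
      rwa [hc] at h1
    have hev : ∀ {a b c d : Fin 7}, a ≠ b → c ≠ d → swap a b * swap c d ∈ alternatingGroup (Fin 7) :=
      fun hab hcd => by rw [Perm.mem_alternatingGroup, map_mul, Perm.sign_swap hab, Perm.sign_swap hcd]; rfl
    have hdih : dih ≤ R.comap (permHom (F := F)) :=
      dih_le (hperm _ (hev (by decide) (by decide)) _ tau_one)
        (hperm _ (hev (by decide) (by decide)) _ tau_two)
    intro u hu
    obtain ⟨d', hd', a', e⟩ := (hu : ν u ∈ monoSub)
    have : ν u ∈ R := by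
      rw [← e, monoG_eq]
      exact R.mul_mem (hE d' hd') (hdih (el_mem a'))
    obtain ⟨u', hu', e'⟩ := this
    exact hν e' ▸ hu'
  · intro g hg hodd
    change g ∈ Subgroup.normalizer (U : Set G) at hg
    show g ∈ Subgroup.centralizer (U : Set G)
    have hN : ∀ y ∈ monoSub (F := F), ν g * y * (ν g)⁻¹ ∈ monoSub := by
      intro y hy
      obtain ⟨u, rfl⟩ := hpre y hy
      rw [← map_inv, ← map_mul, ← map_mul]
      exact (Subgroup.mem_normalizer_iff.1 hg u).1 hy
    obtain ⟨s, τ, hsτ⟩ := eq_mono h2 (hpres g) (diag_char h2 fun d hd => hN _ (diag_mem_monoSub hd))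
    have hτ : ∀ a, τ * el a * τ⁻¹ ∈ dih := by
      intro a
      obtain ⟨e, -, b, h⟩ := hN _ (perm_mem_monoSub a)
      rw [hsτ, monoG_inv] at h
      change monoG e (el b) = monoG s τ * monoG 1 (el a) * monoG _ τ⁻¹ at h
      rw [monoG_mul, monoG_mul] at h
      exact ⟨b, (monoG_inj h2 h).2⟩
    have hpow : ∀ n : ℕ, ∃ e, ν g ^ n = monoG e (τ ^ n) := by
      intro n
      induction n with
      | zero => exact ⟨1, by rw [pow_zero, pow_zero]; exact monoG_one.symm⟩
      | succ n ih =>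
        obtain ⟨e, he⟩ := ih
        exact ⟨fun i => e i * s ((τ ^ n)⁻¹ i), by rw [pow_succ, he, hsτ, monoG_mul, pow_succ]⟩
    obtain ⟨e, he⟩ := hpow 8
    rw [normalize_pow (hτ 1) (hτ 2)] at he
    have h16 : g ^ 16 = 1 := hν (by
      rw [map_pow, show 16 = 8 * 2 by norm_num, pow_mul, he, map_one, pow_two, monoG_mul]
      simp only [inv_one, Perm.one_apply, Int.units_mul_self, mul_one]
      exact monoG_one)
    have : orderOf g = 1 := by
      have hd := orderOf_dvd_of_pow_eq_one h16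
      obtain ⟨k, hk, hk'⟩ := (Nat.dvd_prime_pow Nat.prime_two).1 (show orderOf g ∣ 2 ^ 4 by simpa using hd)
      rcases k with _ | k
      · simpa using hk'
      · exact absurd (hk' ▸ dvd_pow_self 2 k.succ_ne_zero) hodd
    rw [orderOf_eq_one_iff] at this
    subst this
    exact Subgroup.one_mem _

end CfsgLib.OmegaSevenTwo
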