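import Mathlib

/-!
The dihedral group of order eight on seven points and even sign vectors.
-/

set_option autoImplicit false
set_option Elab.async false
set_option maxRecDepth 100000
set_option maxHeartbeats 2000000

namespace CfsgLib.OmegaSevenTwo

open Equiv

/-- sign vectors -/
abbrev Sgn : Type := Fin 7 → ℤˣ

/-- the images of the eight elements -/
def ev : Fin 8 → Fin 7 → Fin 7
  | 0 => ![0, 1, 2, 3, 4, 5, 6]
  | 1 => ![1, 0, 2, 3, 5, 4, 6]
  | 2 => ![2, 3, 0, 1, 4, 5, 6]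
  | 3 => ![2, 3, 1, 0, 5, 4, 6]
  | 4 => ![3, 2, 0, 1, 5, 4, 6]
  | 5 => ![3, 2, 1, 0, 4, 5, 6]
  | 6 => ![0, 1, 3, 2, 5, 4, 6]
  | 7 => ![1, 0, 3, 2, 4, 5, 6]

/-- products -/
def mt : Fin 8 → Fin 8 → Fin 8
  | 0 => ![0, 1, 2, 3, 4, 5, 6, 7]
  | 1 => ![1, 0, 3, 2, 5, 4, 7, 6]
  | 2 => ![2, 4, 0, 6, 1, 7, 3, 5]
  | 3 => ![3, 5, 1, 7, 0, 6, 2, 4]
  | 4 => ![4, 2, 6, 0, 7, 1, 5, 3]
  | 5 => ![5, 3, 7, 1, 6, 0, 4, 2]
  | 6 => ![6, 7, 4, 5, 2, 3, 0, 1]
  | 7 => ![7, 6, 5, 4, 3, 2, 1, 0]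

/-- inverses -/
def iv : Fin 8 → Fin 8 := ![0, 1, 2, 4, 3, 5, 6, 7]

theorem ev_mt : ∀ a b i, ev (mt a b) i = ev a (ev b i) := by decide +kernel

theorem ev_iv : ∀ a i, ev (iv a) (ev a i) = i ∧ ev a (ev (iv a) i) = i := by decide +kernel

/-- the eight permutations -/
def el (a : Fin 8) : Perm (Fin 7) where
  toFun := ev a
  invFun := ev (iv a)
  left_inv i := (ev_iv a i).1
  right_inv i := (ev_iv a i).2

theorem el_mt (a b : Fin 8) : el a * el b = el (mt a b) := Equiv.ext fun i => (ev_mt a b i).symm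

theorem el_zero : el 0 = 1 := Equiv.ext fun i => by fin_cases i <;> rfl

theorem ev_inj : ∀ a b : Fin 8, (∀ i, ev a i = ev b i) → a = b := by decide +kernel

theorem el_inj {a b : Fin 8} (h : el a = el b) : a = b := ev_inj a b fun i => Equiv.congr_fun h i

/-- the dihedral group -/
def dih : Subgroup (Perm (Fin 7)) where
  carrier := {σ | ∃ a, el a = σ}
  one_mem' := ⟨0, el_zero⟩
  mul_mem' {σ τ} hσ hτ := by
    obtain ⟨a, rfl⟩ := hσ
    obtain ⟨b, rfl⟩ := hτ
    exact ⟨mt a b, (el_mt a b).symm⟩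
  inv_mem' {σ} hσ := by
    obtain ⟨a, rfl⟩ := hσ
    exact ⟨iv a, Equiv.ext fun _ => rfl⟩

theorem el_mem (a : Fin 8) : el a ∈ dih := ⟨a, rfl⟩

theorem mt_gen : mt 1 2 = 3 ∧ mt 2 1 = 4 ∧ mt 3 1 = 5 ∧ mt 4 2 = 6 ∧ mt 3 3 = 7 := by decide +kernel

theorem dih_le {H : Subgroup (Perm (Fin 7))} (ha : el 1 ∈ H) (hb : el 2 ∈ H) : dih ≤ H := by
  obtain ⟨e3, e4, e5, e6, e7⟩ := mt_gen
  have h3 : el 3 ∈ H := by rw [← e3, ← el_mt]; exact H.mul_mem ha hb
  have h4 : el 4 ∈ H := by rw [← e4, ← el_mt]; exact H.mul_mem hb ha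
  rintro σ ⟨a, rfl⟩
  fin_cases a
  · exact el_zero ▸ H.one_mem
  · exact ha
  · exact hb
  · exact h3
  · exact h4
  · show el 5 ∈ H
    rw [← e5, ← el_mt]; exact H.mul_mem h3 ha
  · show el 6 ∈ H
    rw [← e6, ← el_mt]; exact H.mul_mem h4 hb
  · show el 7 ∈ H
    rw [← e7, ← el_mt]; exact H.mul_mem h3 h3

theorem el_one_eq : el 1 = swap 0 1 * swap 4 5 := Equiv.ext fun i => by fin_cases i <;> rfl

theorem el_two_eq : el 2 = swap 0 2 * swap 1 3 := Equiv.ext fun i => by fin_cases i <;> rfl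

theorem el_seven_eq : el 7 = swap 0 1 * swap 2 3 := Equiv.ext fun i => by fin_cases i <;> rfl

theorem dih_alternating : dih ≤ alternatingGroup (Fin 7) := by
  refine dih_le ?_ ?_ <;> rw [Perm.mem_alternatingGroup]
  · rw [el_one_eq, map_mul, Perm.sign_swap (by decide), Perm.sign_swap (by decide)]; decide
  · rw [el_two_eq, map_mul, Perm.sign_swap (by decide), Perm.sign_swap (by decide)]; decide

theorem card_dih : Nat.card dih = 8 := by
  rw [← Nat.card_fin 8]
  refine (Nat.card_eq_of_bijective (fun a : Fin 8 => (⟨el a, el_mem a⟩ : dih)) ⟨?_, ?_⟩).symm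
  · exact fun a b h => el_inj (congrArg Subtype.val h)
  · rintro ⟨σ, a, rfl⟩; exact ⟨a, rfl⟩

/-- the product of the entries -/
def total : Sgn →* ℤˣ where
  toFun d := ∏ i, d i
  map_one' := Finset.prod_const_one
  map_mul' _ _ := Finset.prod_mul_distrib

/-- even vectors -/
def evenV : Subgroup Sgn := total.ker

theorem mem_evenV {d : Sgn} : d ∈ evenV ↔ ∏ i, d i = 1 := Iff.rfl

theorem card_evenV : Nat.card evenV = 64 := by
  have hs : Function.Surjective total := by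
    intro u
    refine ⟨Pi.mulSingle 0 u, ?_⟩
    show ∏ i, Pi.mulSingle (M := fun _ : Fin 7 => ℤˣ) 0 u i = u
    rw [Finset.prod_pi_mulSingle' (0 : Fin 7) u Finset.univ]
    simp
  have h := total.ker.card_mul_index
  rw [Subgroup.index_ker, MonoidHom.range_eq_top.2 hs, Subgroup.card_top] at h
  have h1 : Nat.card Sgn = 128 := by simp [Nat.card_eq_fintype_card]
  have h2 : Nat.card ℤˣ = 2 := by simp [Nat.card_eq_fintype_card]
  rw [h1, h2] at h
  show Nat.card total.ker = 64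
  omega

/-- a vector given by six bits -/
def vec (b0 b1 b2 b3 b4 b5 : Bool) : Fin 7 → Bool :=
  ![b0, b1, b2, b3, b4, b5, (b0 ^^ b1 ^^ b2 ^^ b3 ^^ b4 ^^ b5)]

/-- four coordinates detecting the fixed vectors of an involution -/
def co1 : Fin 8 → Fin 4 → Fin 7
  | 1 => ![0, 2, 3, 4]
  | 2 => ![0, 1, 4, 5]
  | 5 => ![0, 1, 4, 5]
  | 6 => ![0, 1, 2, 4]
  | 7 => ![0, 2, 4, 5]
  | _ => ![0, 0, 0, 0]

/-- three coordinates detecting the fixed vectors of two involutions -/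
def co2 : Fin 8 → Fin 8 → Fin 3 → Fin 7
  | 1, 6 => ![0, 2, 4]
  | 1, 7 => ![0, 2, 4]
  | 2, 5 => ![0, 4, 5]
  | 2, 7 => ![0, 4, 5]
  | 5, 2 => ![0, 4, 5]
  | 5, 7 => ![0, 4, 5]
  | 6, 1 => ![0, 2, 4]
  | 6, 7 => ![0, 2, 4]
  | 7, 1 => ![0, 2, 4]
  | 7, 2 => ![0, 4, 5]
  | 7, 5 => ![0, 4, 5]
  | 7, 6 => ![0, 2, 4]
  | _, _ => ![0, 0, 0]

theorem co1_spec : ∀ a : Fin 8, a ≠ 0 → mt a a = 0 → ∀ b0 b1 b2 b3 b4 b5 : Bool,
    (∀ i, vec b0 b1 b2 b3 b4 b5 (ev a i) = vec b0 b1 b2 b3 b4 b5 i) →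
    (∀ k, vec b0 b1 b2 b3 b4 b5 (co1 a k) = false) → ∀ i, vec b0 b1 b2 b3 b4 b5 i = false := by
  decide +kernel

theorem co2_spec : ∀ a b : Fin 8, a ≠ 0 → b ≠ 0 → a ≠ b → mt a a = 0 → mt b b = 0 → mt a b = mt b a →
    ∀ b0 b1 b2 b3 b4 b5 : Bool,
    (∀ i, vec b0 b1 b2 b3 b4 b5 (ev a i) = vec b0 b1 b2 b3 b4 b5 i) →
    (∀ i, vec b0 b1 b2 b3 b4 b5 (ev b i) = vec b0 b1 b2 b3 b4 b5 i) →
    (∀ k, vec b0 b1 b2 b3 b4 b5 (co2 a b k) = false) → ∀ i, vec b0 b1 b2 b3 b4 b5 i = false := by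
  decide +kernel

theorem comm_two : ∀ a b : Fin 8, a ≠ 0 → b ≠ 0 → a ≠ b → mt a a = 0 → mt b b = 0 → mt a b = mt b a →
    ∀ c : Fin 8, mt c c = 0 → mt c a = mt a c → mt c b = mt b c → c = 0 ∨ c = a ∨ c = b ∨ c = mt a b := by
  decide +kernel

/-- an even vector is given by its first six entries -/
theorem exists_vec {d : Sgn} (h : d ∈ evenV) : ∃ b0 b1 b2 b3 b4 b5 : Bool,
    ∀ i, vec b0 b1 b2 b3 b4 b5 i = decide (d i = -1) := by
  refine ⟨decide (d 0 = -1), decide (d 1 = -1), decide (d 2 = -1), decide (d 3 = -1), decide (d 4 = -1),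
    decide (d 5 = -1), fun i => ?_⟩
  rw [mem_evenV, Fin.prod_univ_seven] at h
  fin_cases i <;> try rfl
  show (decide (d 0 = -1) ^^ decide (d 1 = -1) ^^ decide (d 2 = -1) ^^ decide (d 3 = -1) ^^
    decide (d 4 = -1) ^^ decide (d 5 = -1)) = decide (d 6 = -1)
  revert h
  generalize d 0 = u0; generalize d 1 = u1; generalize d 2 = u2; generalize d 3 = u3
  generalize d 4 = u4; generalize d 5 = u5; generalize d 6 = u6
  revert u0 u1 u2 u3 u4 u5 u6
  decide +kernel

theorem eq_one_of_bits {d : Sgn} (h : ∀ i, decide (d i = -1) = false) : d = 1 := by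
  funext i
  exact (Int.units_eq_one_or (d i)).resolve_right (of_decide_eq_false (h i))

theorem fixed_one {a : Fin 8} (ha : a ≠ 0) (h2 : mt a a = 0) {d : Sgn} (hd : d ∈ evenV)
    (hf : ∀ i, d (el a i) = d i) (hc : ∀ k, d (co1 a k) = 1) : d = 1 := by
  obtain ⟨b0, b1, b2, b3, b4, b5, hb⟩ := exists_vec hd
  refine eq_one_of_bits fun i => ?_
  rw [← hb]
  refine co1_spec a ha h2 _ _ _ _ _ _ (fun i => ?_) (fun k => ?_) i
  · rw [hb, hb]; exact congrArg (fun u => decide (u = (-1 : ℤˣ))) (hf i)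
  · rw [hb, hc]; decide

theorem fixed_two {a b : Fin 8} (ha : a ≠ 0) (hb' : b ≠ 0) (hab : a ≠ b) (h2 : mt a a = 0)
    (h2' : mt b b = 0) (hcomm : mt a b = mt b a) {d : Sgn} (hd : d ∈ evenV)
    (hfa : ∀ i, d (el a i) = d i) (hfb : ∀ i, d (el b i) = d i) (hc : ∀ k, d (co2 a b k) = 1) :
    d = 1 := by
  obtain ⟨b0, b1, b2, b3, b4, b5, hb⟩ := exists_vec hd
  refine eq_one_of_bits fun i => ?_
  rw [← hb]
  refine co2_spec a b ha hb' hab h2 h2' hcomm _ _ _ _ _ _ (fun i => ?_) (fun i => ?_) (fun k => ?_) i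
  · rw [hb, hb]; exact congrArg (fun u => decide (u = (-1 : ℤˣ))) (hfa i)
  · rw [hb, hb]; exact congrArg (fun u => decide (u = (-1 : ℤˣ))) (hfb i)
  · rw [hb, hc]; decide

/-- the images of the eight elements as numbers -/
def evN (a i : ℕ) : ℕ :=
  (([[0, 1, 2, 3, 4, 5, 6], [1, 0, 2, 3, 5, 4, 6], [2, 3, 0, 1, 4, 5, 6], [2, 3, 1, 0, 5, 4, 6],
    [3, 2, 0, 1, 5, 4, 6], [3, 2, 1, 0, 4, 5, 6], [0, 1, 3, 2, 5, 4, 6],
    [1, 0, 3, 2, 4, 5, 6]] : List (List ℕ)).getD a []).getD i 0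

theorem evN_eq : ∀ (a : Fin 8) (i : Fin 7), evN a i = (ev a i : ℕ) := by decide +kernel

/-- the candidate normalizing permutation -/
def candT (a b x y z : ℕ) : List ℕ := [x, evN a x, evN b x, evN b (evN a x), y, evN a y, z]

/-- the test of a candidate -/
def candOK (a b x y z : ℕ) : Bool :=
  let t := candT a b x y z
  !((List.range 7).all (fun i => Nat.beq (t.getD (evN 1 i) 0) (evN a (t.getD i 0))) &&
    (List.range 7).all (fun i => Nat.beq (t.getD (evN 2 i) 0) (evN b (t.getD i 0))) &&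
    (List.range 7).all (fun i => (List.range i).all fun j => !Nat.beq (t.getD i 0) (t.getD j 0))) ||
    (List.range 7).all fun i => Nat.beq ((List.range 8).foldl (fun v _ => t.getD v 0) i) i

/-- all candidates for two images -/
def candPair (a b : ℕ) : Bool :=
  (List.range 7).all fun x => (List.range 7).all fun y => (List.range 7).all fun z => candOK a b x y z

theorem candRow0 : ((List.range 8).all fun b => candPair 0 b) = true := by decide +kernel

theorem candRow1 : ((List.range 8).all fun b => candPair 1 b) = true := by decide +kernel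

theorem candRow2 : ((List.range 8).all fun b => candPair 2 b) = true := by decide +kernel

theorem candRow3 : ((List.range 8).all fun b => candPair 3 b) = true := by decide +kernel

theorem candRow4 : ((List.range 8).all fun b => candPair 4 b) = true := by decide +kernel

theorem candRow5 : ((List.range 8).all fun b => candPair 5 b) = true := by decide +kernel

theorem candRow6 : ((List.range 8).all fun b => candPair 6 b) = true := by decide +kernel

theorem candRow7 : ((List.range 8).all fun b => candPair 7 b) = true := by decide +kernel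

theorem candAll (a : Fin 8) : ((List.range 8).all fun b => candPair (a : ℕ) b) = true := by
  fin_cases a
  exacts [candRow0, candRow1, candRow2, candRow3, candRow4, candRow5, candRow6, candRow7]

theorem iterate_succ_foldl {t : Fin 7 → Fin 7} {l : List ℕ} (hl : ∀ i : Fin 7, l.getD i 0 = t i) :
    ∀ (n : ℕ) (i : Fin 7), (List.range n).foldl (fun v _ => l.getD v 0) (i : ℕ) = (t^[n] i : ℕ) := by
  intro n
  induction n with
  | zero => intro i; rfl
  | succ n ih =>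
    intro i
    rw [List.range_succ, List.foldl_append, ih i, Function.iterate_succ_apply']
    exact hl _

theorem normalize_pow {τ : Perm (Fin 7)} (ha : τ * el 1 * τ⁻¹ ∈ dih) (hb : τ * el 2 * τ⁻¹ ∈ dih) :
    τ ^ 8 = 1 := by
  obtain ⟨a, hA⟩ := ha
  obtain ⟨b, hB⟩ := hb
  have ea : ∀ i, τ (ev 1 i) = ev a (τ i) := fun i => by
    show τ (el 1 i) = el a (τ i)
    simp [hA]
  have eb : ∀ i, τ (ev 2 i) = ev b (τ i) := fun i => by
    show τ (el 2 i) = el b (τ i)
    simp [hB]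
  have e : ∀ i : Fin 7, (candT a b (τ 0) (τ 4) (τ 6)).getD i 0 = (τ i : ℕ) := by
    intro i
    fin_cases i
    · rfl
    · show evN a (τ 0) = (τ (ev 1 0) : ℕ)
      rw [ea, evN_eq]
    · show evN b (τ 0) = (τ (ev 2 0) : ℕ)
      rw [eb, evN_eq]
    · show evN b (evN a (τ 0)) = (τ (ev 2 (ev 1 0)) : ℕ)
      rw [eb, ea, evN_eq, evN_eq]
    · rfl
    · show evN a (τ 4) = (τ (ev 1 4) : ℕ)
      rw [ea, evN_eq]
    · rfl
  have h := List.all_eq_true.1 (candAll a) b (List.mem_range.2 b.isLt)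
  have h' := List.all_eq_true.1 (List.all_eq_true.1 (List.all_eq_true.1 h (τ 0) (List.mem_range.2 (τ 0).isLt))
    (τ 4) (List.mem_range.2 (τ 4).isLt)) (τ 6) (List.mem_range.2 (τ 6).isLt)
  simp only [candOK, Bool.or_eq_true, List.all_eq_true, List.mem_range, Nat.beq_eq] at h'
  rcases h' with h' | h'
  · exfalso
    rw [Bool.not_eq_true', ← Bool.not_eq_true] at h'
    apply h'
    simp only [Bool.and_eq_true, List.all_eq_true, List.mem_range, Bool.not_eq_true']
    refine ⟨⟨fun i hi => ?_, fun i hi => ?_⟩, fun i hi j hj => ?_⟩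
    · rw [Nat.beq_eq, e ⟨i, hi⟩, show evN 1 i = evN ((1 : Fin 8) : ℕ) ((⟨i, hi⟩ : Fin 7) : ℕ) from rfl,
        evN_eq, e, evN_eq, ea]
    · rw [Nat.beq_eq, e ⟨i, hi⟩, show evN 2 i = evN ((2 : Fin 8) : ℕ) ((⟨i, hi⟩ : Fin 7) : ℕ) from rfl,
        evN_eq, e, evN_eq, eb]
    · rw [e ⟨i, hi⟩, e ⟨j, hj.trans hi⟩]
      refine Bool.eq_false_iff.2 fun hc => ?_
      rw [Nat.beq_eq] at hc
      exact (Nat.ne_of_gt hj) (congrArg Fin.val (τ.injective (Fin.ext hc)))
  · refine Equiv.ext fun i => Fin.ext ?_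
    rw [Perm.coe_pow, ← iterate_succ_foldl e 8 i]
    exact h' i i.isLt

/-- two entries negated -/
def pair (i j : Fin 7) : Sgn := fun k => if k = i ∨ k = j then -1 else 1

/-- the three cycle carrying i to j -/
def cyc (i j k : Fin 7) : Perm (Fin 7) := swap i j * swap j k

theorem cyc_apply {i j k : Fin 7} (hij : i ≠ j) (hik : i ≠ k) (hjk : j ≠ k) :
    cyc i j k i = j ∧ cyc i j k j = k ∧ cyc i j k k = i ∧
      ∀ x, x ≠ i → x ≠ j → x ≠ k → cyc i j k x = x := by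
  refine ⟨?_, ?_, ?_, fun x h1 h2 h3 => ?_⟩
  · simp [cyc, swap_apply_of_ne_of_ne hij hik]
  · simp [cyc, swap_apply_of_ne_of_ne hik.symm hjk.symm]
  · simp [cyc]
  · simp [cyc, swap_apply_of_ne_of_ne h2 h3, swap_apply_of_ne_of_ne h1 h2]

theorem pair_comm (i j : Fin 7) : pair i j = pair j i := by
  funext x; simp [pair, or_comm]

theorem pair_move {i j k : Fin 7} (hij : i ≠ j) (hik : i ≠ k) (hjk : j ≠ k) :
    (fun x => pair i j (cyc i j k x)) = pair i k := by
  obtain ⟨h1, h2, h3, h4⟩ := cyc_apply hij hik hjk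
  funext x
  rcases eq_or_ne x i with rfl | x1
  · simp [pair, h1]
  rcases eq_or_ne x j with rfl | x2
  · simp [pair, h2, x1, hik.symm, hjk.symm, hjk]
  rcases eq_or_ne x k with rfl | x3
  · simp [pair, h3]
  simp [pair, h4 x x1 x2 x3, x1, x2, x3]

theorem pair_mul {i j k : Fin 7} (hij : i ≠ j) (hik : i ≠ k) (hjk : j ≠ k) :
    pair i j * pair i k = pair j k := by
  funext x
  rcases eq_or_ne x i with rfl | x1
  · simp [pair, hij, hik]
  rcases eq_or_ne x j with rfl | x2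
  · simp [pair, x1, hjk]
  rcases eq_or_ne x k with rfl | x3
  · simp [pair, x1, x2]
  simp [pair, x1, x2, x3]

theorem exists_third : ∀ i j : Fin 7, ∃ k, k ≠ i ∧ k ≠ j := by decide +kernel

theorem exists_ne_of_ne_one {d : Sgn} (hd : d ∈ evenV) (h1 : d ≠ 1) : ∃ i j, d i ≠ d j := by
  by_contra hc
  push Not at hc
  rcases Int.units_eq_one_or (d 0) with h0 | h0
  · exact h1 (funext fun i => (hc i 0).trans h0)
  · rw [mem_evenV, Finset.prod_congr rfl fun i _ => (hc i 0).trans h0] at hd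
    exact absurd hd (by decide)

theorem pair_of_three_cycle {d : Sgn} {i j k : Fin 7} (hd : d i ≠ d j) (hij : i ≠ j) (hik : i ≠ k)
    (hjk : j ≠ k) : ∃ p q, p ≠ q ∧ (fun x => d x * d (cyc i j k x)) = pair p q := by
  obtain ⟨h1, h2, h3, h4⟩ := cyc_apply hij hik hjk
  have hsq : ∀ u : ℤˣ, u * u = 1 := fun u => Int.units_mul_self u
  have hne : ∀ u v : ℤˣ, u ≠ v → u * v = -1 := by decide
  rcases eq_or_ne (d k) (d i) with hk | hk
  · refine ⟨i, j, hij, funext fun x => ?_⟩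
    rcases eq_or_ne x i with rfl | x1
    · simp [pair, h1, hne _ _ hd]
    rcases eq_or_ne x j with rfl | x2
    · simp [pair, h2, hk, hne _ _ (Ne.symm hd)]
    rcases eq_or_ne x k with rfl | x3
    · simp [pair, h3, hk, hsq, x1, x2]
    simp [pair, h4 x x1 x2 x3, hsq, x1, x2]
  · have hk' : d k = d j := by
      revert hk hd
      generalize d i = u; generalize d j = v; generalize d k = w
      revert u v w
      decide
    refine ⟨i, k, hik, funext fun x => ?_⟩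
    rcases eq_or_ne x i with rfl | x1
    · simp [pair, h1, hne _ _ hd]
    rcases eq_or_ne x j with rfl | x2
    · simp [pair, h2, hk', hsq, x1, hjk]
    rcases eq_or_ne x k with rfl | x3
    · simp [pair, h3, hk', hne _ _ (Ne.symm hd)]
    simp [pair, h4 x x1 x2 x3, hsq, x1, x3]

theorem pair_even : ∀ i j : Fin 7, i ≠ j → pair i j ∈ evenV := by
  intro i j hij
  rw [mem_evenV]
  revert i j
  decide +kernel

theorem pairs_generate : ∀ b0 b1 b2 b3 b4 b5 : Bool, ∀ i : Fin 7,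
    (if vec b0 b1 b2 b3 b4 b5 i then (-1 : ℤˣ) else 1) =
      (∏ j : Fin 6, if vec b0 b1 b2 b3 b4 b5 j.castSucc then pair j.castSucc 6 else 1) i := by
  decide +kernel

theorem evenV_le {H : Subgroup Sgn} (h : ∀ i j : Fin 7, i ≠ j → pair i j ∈ H) : evenV ≤ H := by
  intro d hd
  obtain ⟨b0, b1, b2, b3, b4, b5, hb⟩ := exists_vec hd
  have e : d = ∏ j : Fin 6, if vec b0 b1 b2 b3 b4 b5 j.castSucc then pair j.castSucc 6 else 1 := by
    funext i
    rw [← pairs_generate, hb]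
    rcases Int.units_eq_one_or (d i) with hu | hu <;> simp [hu]
  rw [e]
  refine Subgroup.prod_mem _ fun j _ => ?_
  split
  · exact h _ _ (Fin.castSucc_lt_last j).ne
  · exact H.one_mem

theorem exists_moved {σ : Perm (Fin 7)} (h : σ ≠ 1) :
    ∃ i j : Fin 7, i ≠ j ∧ (fun x => pair i j (σ⁻¹ x) * pair i j x) ≠ 1 := by
  obtain ⟨x, hx⟩ : ∃ x, σ x ≠ x := by
    by_contra hc
    push Not at hc
    exact h (Equiv.ext hc)
  obtain ⟨y, hy1, hy2⟩ := exists_third x (σ x)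
  refine ⟨x, y, hy1.symm, fun hc => ?_⟩
  have := congrFun hc (σ x)
  simp [pair, hx, hy2.symm] at this

end CfsgLib.OmegaSevenTwo
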