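import Cfsg.Prelude.Def_Classical
import Cfsg.Agent.Lib.OmegaSevenTwo.Perm

/-!
Monomial elements of the orthogonal group of a sum of seven squares.
-/

set_option autoImplicit false
set_option linter.unusedSectionVars false

namespace CfsgLib.OmegaSevenTwo

open Equiv Matrix
open scoped commutatorElement

variable {F : Type*} [Field F]

theorem perm_apply_inv (σ : Perm (Fin 7)) (i : Fin 7) : σ (σ⁻¹ i) = i := σ.apply_symm_apply i

theorem perm_inv_apply (σ : Perm (Fin 7)) (i : Fin 7) : σ⁻¹ (σ i) = i := σ.symm_apply_apply i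

/-- the sum of squares -/
def Qs (u : Fin 7 → F) : F := ∑ i, u i ^ 2

/-- the sign in the field -/
def sgnF (u : ℤˣ) : F := ((u : ℤ) : F)

theorem sgnF_mul (u v : ℤˣ) : sgnF (F := F) (u * v) = sgnF u * sgnF v := by
  simp [sgnF]

theorem sgnF_one : sgnF (F := F) 1 = 1 := by simp [sgnF]

theorem sgnF_sq (u : ℤˣ) : sgnF (F := F) u * sgnF u = 1 := by
  rw [← sgnF_mul, Int.units_mul_self, sgnF_one]

theorem sgnF_ne (u : ℤˣ) : sgnF (F := F) u ≠ 0 := fun h => by
  have := sgnF_sq (F := F) u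
  rw [h, mul_zero] at this
  exact zero_ne_one this

theorem sgnF_inj (h2 : (2 : F) ≠ 0) {u v : ℤˣ} (h : sgnF (F := F) u = sgnF v) : u = v := by
  have hne : (1 : F) ≠ -1 := fun e => h2 (by linear_combination e)
  rcases Int.units_eq_one_or u with rfl | rfl <;> rcases Int.units_eq_one_or v with rfl | rfl <;>
    first
    | rfl
    | (exfalso; apply hne; simpa [sgnF] using h)
    | (exfalso; apply hne; simpa [sgnF] using h.symm)

/-- a signed permutation matrix -/
def monoM (d : Sgn) (σ : Perm (Fin 7)) : Matrix (Fin 7) (Fin 7) F :=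
  Matrix.of fun i j => if i = σ j then sgnF (d i) else 0

theorem monoM_apply (d : Sgn) (σ : Perm (Fin 7)) (i j : Fin 7) :
    monoM (F := F) d σ i j = if i = σ j then sgnF (d i) else 0 := rfl

theorem monoM_mul (d e : Sgn) (σ τ : Perm (Fin 7)) :
    monoM (F := F) d σ * monoM e τ = monoM (fun i => d i * e (σ⁻¹ i)) (σ * τ) := by
  ext i k
  rw [Matrix.mul_apply, Finset.sum_eq_single (σ⁻¹ i)]
  · simp only [monoM_apply, perm_apply_inv, if_true]
    by_cases h : σ⁻¹ i = τ k
    · have hk : i = (σ * τ) k := by rw [Perm.mul_apply, ← h, perm_apply_inv]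
      rw [if_pos h, if_pos hk, sgnF_mul]
    · have hk : ¬ i = (σ * τ) k := fun he => h (by rw [he, Perm.mul_apply, perm_inv_apply])
      rw [if_neg h, if_neg hk, mul_zero]
  · intro j _ hj
    rw [monoM_apply, if_neg (fun e => hj (by rw [e, perm_inv_apply])), zero_mul]
  · simp

theorem monoM_one : monoM (F := F) 1 1 = 1 := by
  ext i j
  simp [monoM_apply, Matrix.one_apply, sgnF_one]

/-- a signed permutation -/
def monoG (d : Sgn) (σ : Perm (Fin 7)) : GL (Fin 7) F where
  val := monoM d σ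
  inv := monoM (fun i => d (σ i)) σ⁻¹
  val_inv := by
    rw [monoM_mul, mul_inv_cancel]
    simp only [perm_apply_inv, Int.units_mul_self]
    exact monoM_one
  inv_val := by
    rw [monoM_mul, inv_mul_cancel]
    simp only [inv_inv, Int.units_mul_self]
    exact monoM_one

theorem monoG_mul (d e : Sgn) (σ τ : Perm (Fin 7)) :
    monoG (F := F) d σ * monoG e τ = monoG (fun i => d i * e (σ⁻¹ i)) (σ * τ) :=
  Units.ext (monoM_mul d e σ τ)

theorem monoG_one : monoG (F := F) 1 1 = 1 := Units.ext monoM_one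

theorem monoG_inj (h2 : (2 : F) ≠ 0) {d e : Sgn} {σ τ : Perm (Fin 7)}
    (h : monoG (F := F) d σ = monoG e τ) : d = e ∧ σ = τ := by
  have hM : monoM (F := F) d σ = monoM e τ := congrArg Units.val h
  have hσ : σ = τ := Equiv.ext fun j => by
    by_contra hne
    have := congrFun (congrFun hM (σ j)) j
    rw [monoM_apply, monoM_apply, if_pos rfl, if_neg hne] at this
    exact sgnF_ne _ this
  subst hσ
  refine ⟨funext fun i => sgnF_inj h2 ?_, rfl⟩
  have := congrFun (congrFun hM i) (σ⁻¹ i)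
  simpa [monoM_apply] using this

theorem monoG_inv (d : Sgn) (σ : Perm (Fin 7)) :
    (monoG (F := F) d σ)⁻¹ = monoG (fun i => d (σ i)) σ⁻¹ := Units.ext rfl

/-- diagonal signs -/
def diagHom : Sgn →* GL (Fin 7) F where
  toFun d := monoG d 1
  map_one' := monoG_one
  map_mul' d e := by
    rw [monoG_mul, mul_one]
    rfl

/-- permutation matrices -/
def permHom : Perm (Fin 7) →* GL (Fin 7) F where
  toFun σ := monoG 1 σ
  map_one' := monoG_one
  map_mul' σ τ := by
    rw [monoG_mul]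
    simp only [Pi.one_apply, mul_one]
    rfl

theorem diag_conj (d : Sgn) (σ : Perm (Fin 7)) (e : Sgn) :
    monoG (F := F) d σ * diagHom e * (monoG d σ)⁻¹ = diagHom (fun i => e (σ⁻¹ i)) := by
  rw [monoG_inv]
  show monoG d σ * monoG e 1 * monoG _ σ⁻¹ = monoG _ 1
  rw [monoG_mul, mul_one, monoG_mul, mul_inv_cancel]
  congr 1
  funext i
  simp only [perm_apply_inv]
  rw [mul_comm (d i), mul_assoc, Int.units_mul_self, mul_one]

theorem monoM_mulVec (d : Sgn) (σ : Perm (Fin 7)) (u : Fin 7 → F) (i : Fin 7) :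
    (monoM d σ *ᵥ u) i = sgnF (d i) * u (σ⁻¹ i) := by
  rw [Matrix.mulVec, dotProduct, Finset.sum_eq_single (σ⁻¹ i)]
  · simp [monoM_apply]
  · intro j _ hj
    rw [monoM_apply, if_neg (fun e => hj (by rw [e, perm_inv_apply])), zero_mul]
  · simp

theorem monoG_mem (d : Sgn) (σ : Perm (Fin 7)) : monoG d σ ∈ Cfsg.isometryGroup F (Qs (F := F)) := by
  intro u _
  show Qs (monoM d σ *ᵥ u) = Qs u
  simp only [Qs, monoM_mulVec, mul_pow, pow_two (sgnF _), sgnF_sq, one_mul]
  exact Equiv.sum_comp σ⁻¹ (fun i => u i ^ 2)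

/-- twice the involution mixing four coordinates -/
def hadZ : Matrix (Fin 7) (Fin 7) ℤ :=
  !![1, 1, 1, 1, 0, 0, 0; 1, 1, -1, -1, 0, 0, 0; 1, -1, 1, -1, 0, 0, 0; 1, -1, -1, 1, 0, 0, 0;
    0, 0, 0, 0, 2, 0, 0; 0, 0, 0, 0, 0, 2, 0; 0, 0, 0, 0, 0, 0, 2]

/-- the signed permutation over the integers -/
def monoZ (d : Sgn) (σ : Perm (Fin 7)) : Matrix (Fin 7) (Fin 7) ℤ :=
  Matrix.of fun i j => if i = σ j then (d i : ℤ) else 0

/-- one negated entry -/
def single0 : Sgn := fun k => if k = 0 then -1 else 1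

theorem hadZ_sq : hadZ * hadZ = (4 : ℤ) • (1 : Matrix (Fin 7) (Fin 7) ℤ) := by decide +kernel

theorem hadZ_symm : hadZ.transpose = hadZ := by decide +kernel

theorem hadZ_conj : hadZ * monoZ single0 1 * hadZ * monoZ single0 1 * monoZ (pair 0 1) 1 *
      (monoZ single0 1 * hadZ * monoZ single0 1 * hadZ) =
    (16 : ℤ) • monoZ (pair 2 3) (swap 0 1 * swap 2 3) := by decide +kernel

/-- integer matrices over the field -/
def castM : Matrix (Fin 7) (Fin 7) ℤ →+* Matrix (Fin 7) (Fin 7) F := (Int.castRingHom F).mapMatrix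

theorem castM_monoZ (d : Sgn) (σ : Perm (Fin 7)) : castM (monoZ d σ) = monoM (F := F) d σ := by
  ext i j
  simp only [castM, RingHom.mapMatrix_apply, Matrix.map_apply, monoZ, Matrix.of_apply, monoM_apply]
  split <;> simp [sgnF]

variable (h2 : (2 : F) ≠ 0)

/-- the involution mixing four coordinates -/
def hadG : GL (Fin 7) F where
  val := (2 : F)⁻¹ • castM hadZ
  inv := (2 : F)⁻¹ • castM hadZ
  val_inv := by
    rw [smul_mul_smul_comm, ← map_mul, hadZ_sq, map_zsmul, map_one, ← Int.cast_smul_eq_zsmul F, smul_smul]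
    rw [show (2 : F)⁻¹ * (2 : F)⁻¹ * ((4 : ℤ) : F) = 1 by push_cast; field_simp; norm_num, one_smul]
  inv_val := by
    rw [smul_mul_smul_comm, ← map_mul, hadZ_sq, map_zsmul, map_one, ← Int.cast_smul_eq_zsmul F, smul_smul]
    rw [show (2 : F)⁻¹ * (2 : F)⁻¹ * ((4 : ℤ) : F) = 1 by push_cast; field_simp; norm_num, one_smul]

theorem hadG_mem : hadG h2 ∈ Cfsg.isometryGroup F (Qs (F := F)) := by
  intro u _
  set M : Matrix (Fin 7) (Fin 7) F := (hadG h2).val with hM
  show Qs (M *ᵥ u) = Qs u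
  have ht : M.transpose = M := by
    show ((2 : F)⁻¹ • castM hadZ).transpose = _
    rw [Matrix.transpose_smul, castM, RingHom.mapMatrix_apply, ← Matrix.transpose_map, hadZ_symm]
    rfl
  have e : ∀ v : Fin 7 → F, Qs v = v ⬝ᵥ v := fun v => by simp [Qs, dotProduct, pow_two]
  have hMM : M * M = 1 := (hadG h2).val_inv
  rw [e, e, Matrix.dotProduct_mulVec, ← Matrix.mulVec_transpose, ht, Matrix.mulVec_mulVec, hMM,
    Matrix.one_mulVec]

/-- the mixing commutator carries a diagonal element to a permutation -/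
theorem mixer_conj :
    ⁅hadG h2, monoG (F := F) single0 1⁆ * diagHom (pair 0 1) * ⁅hadG h2, monoG (F := F) single0 1⁆⁻¹ =
      monoG (pair 2 3) (swap 0 1 * swap 2 3) := by
  have hg : (hadG h2)⁻¹ = hadG h2 := Units.ext rfl
  have hs : (monoG (F := F) single0 1)⁻¹ = monoG single0 1 := by
    rw [monoG_inv, inv_one]; rfl
  rw [commutatorElement_def, hg, hs]
  refine Units.ext ?_
  simp only [Units.val_mul, _root_.mul_inv_rev, hg, hs]
  show (2 : F)⁻¹ • castM hadZ * monoM single0 1 * ((2 : F)⁻¹ • castM hadZ) * monoM single0 1 *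
      monoM (pair 0 1) 1 *
      (monoM single0 1 * ((2 : F)⁻¹ • castM hadZ * (monoM single0 1 * ((2 : F)⁻¹ • castM hadZ)))) =
    monoM (pair 2 3) (swap 0 1 * swap 2 3)
  simp only [← castM_monoZ, smul_mul_assoc, mul_smul_comm, smul_smul, ← map_mul]
  rw [← mul_assoc (monoZ single0 1) hadZ, ← mul_assoc (monoZ single0 1 * hadZ) (monoZ single0 1), hadZ_conj,
    map_zsmul, ← Int.cast_smul_eq_zsmul F, smul_smul]
  rw [show (2 : F)⁻¹ * (2 : F)⁻¹ * ((2 : F)⁻¹ * (2 : F)⁻¹) * ((16 : ℤ) : F) = 1 by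
    push_cast; field_simp; norm_num, one_smul]

section
variable {K : Subgroup (GL (Fin 7) F)}
  (hK : ∀ a ∈ Cfsg.isometryGroup F (Qs (F := F)), ∀ b ∈ Cfsg.isometryGroup F (Qs (F := F)), ⁅a, b⁆ ∈ K)
include hK

theorem permHom_mem {σ : Perm (Fin 7)} (hσ : σ ∈ alternatingGroup (Fin 7)) : permHom σ ∈ K := by
  rw [← alternatingGroup.commutator_perm_eq (by simp)] at hσ
  have hle : commutator (Perm (Fin 7)) ≤ K.comap (permHom (F := F)) := by
    rw [commutator_def, Subgroup.commutator_le]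
    intro s _ t _
    rw [Subgroup.mem_comap, map_commutatorElement]
    exact hK _ (monoG_mem 1 s) _ (monoG_mem 1 t)
  exact hle hσ

theorem diagHom_mem {d : Sgn} (hd : d ∈ evenV) : diagHom d ∈ K := by
  refine (evenV_le (H := K.comap (diagHom (F := F))) fun i j hij => ?_) hd
  show diagHom (pair i j) ∈ K
  let s : Sgn := fun k => if k = i then -1 else 1
  have e : ⁅permHom (F := F) (swap i j), diagHom (F := F) s⁆ = diagHom (pair i j) := by
    rw [commutatorElement_def, ← map_inv diagHom]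
    show monoG (1 : Sgn) (swap i j) * diagHom s * (monoG (1 : Sgn) (swap i j))⁻¹ * diagHom s⁻¹ = _
    rw [diag_conj, ← map_mul]
    congr 1
    funext k
    simp only [Pi.mul_apply, Pi.inv_apply, swap_inv, s, pair]
    rcases eq_or_ne k i with rfl | k1
    · simp [hij.symm]
    rcases eq_or_ne k j with rfl | k2
    · simp [k1]
    simp [swap_apply_of_ne_of_ne k1 k2, k1, k2]
  rw [← e]
  exact hK _ (monoG_mem 1 _) _ (monoG_mem s 1)

theorem monoG_mem_range {d : Sgn} {σ : Perm (Fin 7)} (hd : d ∈ evenV) (hσ : σ ∈ alternatingGroup (Fin 7)) :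
    monoG d σ ∈ K := by
  have e : monoG (F := F) d σ = diagHom d * permHom σ := by
    show _ = monoG d 1 * monoG 1 σ
    rw [monoG_mul, one_mul]
    simp
  rw [e]
  exact K.mul_mem (diagHom_mem hK hd) (permHom_mem hK hσ)

theorem mixer_mem : ⁅hadG h2, monoG (F := F) single0 1⁆ ∈ K :=
  hK _ (hadG_mem h2) _ (monoG_mem single0 1)

end

end CfsgLib.OmegaSevenTwo
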